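import Mathlib

set_option autoImplicit false

namespace Cfsg.Agent.Helper4

theorem conj_pow_pow_eq {G : Type*} [Group G] (g x : G) (k : ℕ) (h : g * x * g⁻¹ = x ^ k) :
    ∀ j : ℕ, g ^ j * x * (g ^ j)⁻¹ = x ^ (k ^ j)
  | 0 => by simp
  | j + 1 => by
    have ih := conj_pow_pow_eq g x k h j
    calc g ^ (j + 1) * x * (g ^ (j + 1))⁻¹ = g * (g ^ j * x * (g ^ j)⁻¹) * g⁻¹ := by
          rw [pow_succ', mul_inv_rev]; simp only [mul_assoc]
      _ = g * x ^ (k ^ j) * g⁻¹ := by rw [ih]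
      _ = (g * x * g⁻¹) ^ (k ^ j) := by rw [conj_pow]
      _ = (x ^ k) ^ (k ^ j) := by rw [h]
      _ = x ^ (k ^ (j + 1)) := by rw [← pow_mul, pow_succ']

/-- An element normalizing the cyclic group `⟨x⟩` has its `φ(|x|)`-th power centralizing `x`. -/
theorem pow_totient_commute {G : Type*} [Group G] [Finite G] (x g : G)
    (hg : g ∈ Subgroup.normalizer ((Subgroup.zpowers x : Subgroup G) : Set G)) :
    g ^ (Nat.totient (orderOf x)) * x = x * g ^ (Nat.totient (orderOf x)) := by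
  have h1 : g * x * g⁻¹ ∈ Subgroup.zpowers x :=
    (Subgroup.mem_normalizer_iff.mp hg x).mp (Subgroup.mem_zpowers x)
  obtain ⟨k, hk⟩ : ∃ k : ℕ, x ^ k = g * x * g⁻¹ := by
    have h2 := (mem_powers_iff_mem_zpowers (x := x)).mpr h1
    exact h2
  have hord : orderOf (g * x * g⁻¹) = orderOf x := (MulAut.conj g).orderOf_eq x
  have hcop : Nat.Coprime k (orderOf x) := by
    rw [← hk, orderOf_pow] at hord
    have hpos : 0 < orderOf x := orderOf_pos x
    have hdvd := Nat.gcd_dvd_left (orderOf x) k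
    have h3 := Nat.div_mul_cancel hdvd
    rw [hord] at h3
    have hg1 : Nat.gcd (orderOf x) k = 1 :=
      Nat.eq_of_mul_eq_mul_left hpos (by rw [h3, mul_one])
    exact Nat.coprime_comm.mp hg1
  have hmod := Nat.ModEq.pow_totient hcop
  have h2 := conj_pow_pow_eq g x k hk.symm (Nat.totient (orderOf x))
  have h3 : x ^ (k ^ Nat.totient (orderOf x)) = x := by
    have h4 := (pow_eq_pow_iff_modEq (x := x)).mpr hmod
    rwa [pow_one] at h4
  rw [h3] at h2
  calc g ^ (Nat.totient (orderOf x)) * x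
      = (g ^ (Nat.totient (orderOf x)) * x * (g ^ (Nat.totient (orderOf x)))⁻¹) *
        g ^ (Nat.totient (orderOf x)) := by group
    _ = x * g ^ (Nat.totient (orderOf x)) := by rw [h2]

/-- Bezout splitting: if `v ^ a` and `v ^ b` lie in a subgroup with `a`, `b` coprime then so does `v`. -/
theorem mem_of_pow_mem_of_coprime {G : Type*} [Group G] (C : Subgroup G) (v : G) (a b : ℕ)
    (hab : Nat.Coprime a b) (ha : v ^ a ∈ C) (hb : v ^ b ∈ C) : v ∈ C := by
  obtain ⟨s, t, hst⟩ := Nat.isCoprime_iff_coprime.mpr hab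
  have hv : v = (v ^ a) ^ s * (v ^ b) ^ t := by
    rw [← zpow_natCast v a, ← zpow_natCast v b, ← zpow_mul, ← zpow_mul, ← zpow_add]
    have e : (a : ℤ) * s + (b : ℤ) * t = 1 := by rw [← hst]; ring
    rw [e, zpow_one]
  rw [hv]
  exact C.mul_mem (C.zpow_mem ha s) (C.zpow_mem hb t)

end Cfsg.Agent.Helper4
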