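import Mathlib
import Cfsg.Agent.Helper4.NPC
import Cfsg.Agent.Helper4.CycNorm
import Cfsg.Agent.Helper5.Basic
import Cfsg.Agent.Helper5.Cores
import Cfsg.Agent.Helper5.Stability
import Cfsg.Agent.Helper3.PComp
import Cfsg.Prelude.Def_Local

set_option autoImplicit false

namespace Cfsg.Agent.Helper4

open Cfsg

/-- The centralizer of a normal subgroup is normal. -/
theorem centralizer_normal_of_normal {G : Type*} [Group G] (P : Subgroup G) (hP : P.Normal) :
    (Subgroup.centralizer (P : Set G)).Normal := by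
  constructor
  intro c hc g
  rw [Subgroup.mem_centralizer_iff] at hc ⊢
  intro x hx
  have h1 : g⁻¹ * x * g⁻¹⁻¹ ∈ P := hP.conj_mem x hx g⁻¹
  have h2 := hc _ h1
  have h3 : x * (g * c * g⁻¹) = g * ((g⁻¹ * x * g⁻¹⁻¹) * c) * g⁻¹ := by group
  have h4 : g * c * g⁻¹ * x = g * (c * (g⁻¹ * x * g⁻¹⁻¹)) * g⁻¹ := by group
  rw [h3, h4, h2]

/-- One step of Hall–Higman 1.2.3 along a `p`-series. -/
theorem hh_step {G : Type*} [Group G] [Finite G] {p : ℕ} [Fact p.Prime]
    (hO : pPrimeCore p G = ⊥) (A₀ A₁ : Subgroup G) (hA₀ : A₀.Normal) (hA₁ : A₁.Normal)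
    (hfac : (∃ m : ℕ, A₀.relIndex A₁ = p ^ m) ∨ (A₀.relIndex A₁).Coprime p)
    (IH : A₀ ⊓ Subgroup.centralizer (pCore p G : Set G) ≤ pCore p G) :
    A₁ ⊓ Subgroup.centralizer (pCore p G : Set G) ≤ pCore p G := by
  have hpp : p.Prime := Fact.out
  have hPn : (pCore p G).Normal := Helper5.pCore_normal p G
  have hPp : IsPGroup p (pCore p G) := Helper5.pCore_isPGroup
  have hCn : (Subgroup.centralizer (pCore p G : Set G)).Normal :=
    centralizer_normal_of_normal _ hPn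
  have hKn : (A₁ ⊓ Subgroup.centralizer (pCore p G : Set G)).Normal :=
    ⟨fun x hx g => Subgroup.mem_inf.mpr
      ⟨hA₁.conj_mem x (Subgroup.mem_inf.mp hx).1 g, hCn.conj_mem x (Subgroup.mem_inf.mp hx).2 g⟩⟩
  apply Helper5.le_pCore _ hKn
  apply Helper5.isPGroup_of_coprime_elements_trivial
  intro y hy hycop
  obtain ⟨hyA, hyC⟩ := Subgroup.mem_inf.mp hy
  rcases hfac with ⟨m, hm⟩ | hcop
  · have h1 : y ^ p ^ m ∈ A₀ := by
      have h0 := Subgroup.pow_relIndex_mem A₀ hyA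
      rwa [hm] at h0
    have h2 : y ^ p ^ m ∈ pCore p G :=
      IH (Subgroup.mem_inf.mpr ⟨h1, Subgroup.pow_mem _ hyC _⟩)
    obtain ⟨j, hj⟩ := hPp ⟨_, h2⟩
    have h3 : (y ^ p ^ m) ^ p ^ j = 1 := by
      have h0 := congrArg Subtype.val hj
      rw [Subgroup.coe_pow, Subgroup.coe_one] at h0
      exact h0
    have h4 : orderOf y ∣ p ^ (m + j) := by
      apply orderOf_dvd_of_pow_eq_one
      rw [pow_add, pow_mul]; exact h3
    have h5 : orderOf y ∣ Nat.gcd (orderOf y) (p ^ (m + j)) := Nat.dvd_gcd dvd_rfl h4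
    rw [Nat.Coprime.gcd_eq_one (hycop.pow_right _), Nat.dvd_one, orderOf_eq_one_iff] at h5
    exact h5
  · -- p'-factor: Burnside in K
    obtain ⟨S⟩ : Nonempty (Sylow p ↥(A₁ ⊓ Subgroup.centralizer (pCore p G : Set G))) := inferInstance
    have hcen : ∀ x ∈ (S : Subgroup ↥(A₁ ⊓ Subgroup.centralizer (pCore p G : Set G))),
        ∀ c : ↥(A₁ ⊓ Subgroup.centralizer (pCore p G : Set G)), c * x = x * c := by
      intro x hx c
      obtain ⟨hxA, hxC⟩ := Subgroup.mem_inf.mp x.2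
      obtain ⟨j, hj⟩ := S.2 ⟨x, hx⟩
      have h1 : (x : G) ^ p ^ j = 1 := by
        have h0 := congrArg Subtype.val (congrArg Subtype.val hj)
        simpa using h0
      have h2 : (x : G) ^ A₀.relIndex A₁ ∈ pCore p G :=
        IH (Subgroup.mem_inf.mpr ⟨Subgroup.pow_relIndex_mem A₀ hxA, Subgroup.pow_mem _ hxC _⟩)
      have h3 : (x : G) ∈ pCore p G :=
        mem_of_pow_mem_of_coprime (pCore p G) (x : G) (A₀.relIndex A₁) (p ^ j)
          (Nat.Coprime.pow_right j hcop) h2 (by rw [h1]; exact Subgroup.one_mem _)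
      have h4 := Subgroup.mem_centralizer_iff.mp (Subgroup.mem_inf.mp c.2).2 _ h3
      apply Subtype.ext
      rw [Subgroup.coe_mul, Subgroup.coe_mul]
      exact h4.symm
    obtain ⟨K₁, hK₁n, hK₁c, hK₁all⟩ := exists_normal_coprime_of_central_sylow S hcen
    have hDn : (K₁.map (A₁ ⊓ Subgroup.centralizer (pCore p G : Set G)).subtype).Normal := by
      constructor
      intro d hd g
      obtain ⟨k, hk, rfl⟩ := Subgroup.mem_map.mp hd
      have h1 : g * (k : G) * g⁻¹ ∈ A₁ ⊓ Subgroup.centralizer (pCore p G : Set G) :=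
        hKn.conj_mem _ k.2 g
      refine Subgroup.mem_map.mpr ⟨⟨_, h1⟩, ?_, rfl⟩
      apply hK₁all
      have h2 : orderOf (⟨g * (k : G) * g⁻¹, h1⟩ :
          ↥(A₁ ⊓ Subgroup.centralizer (pCore p G : Set G))) = orderOf k := by
        rw [← Subgroup.orderOf_coe, ← Subgroup.orderOf_coe k]
        have h0 := MulEquiv.orderOf_eq (MulAut.conj g) (k : G)
        rw [MulAut.conj_apply] at h0
        exact h0
      rw [h2]
      have h3 : orderOf k ∣ Nat.card K₁ := K₁.orderOf_dvd_natCard hk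
      exact Nat.Coprime.coprime_dvd_left h3 hK₁c
    have hDc : (Nat.card (K₁.map (A₁ ⊓ Subgroup.centralizer (pCore p G : Set G)).subtype)).Coprime p := by
      rw [← Nat.card_congr (K₁.equivMapOfInjective _ (Subgroup.subtype_injective _)).toEquiv]
      exact hK₁c
    have hD : K₁.map (A₁ ⊓ Subgroup.centralizer (pCore p G : Set G)).subtype ≤ pPrimeCore p G :=
      Helper5.le_pPrimeCore _ hDn hDc
    rw [hO] at hD
    have h1 : (⟨y, hy⟩ : ↥(A₁ ⊓ Subgroup.centralizer (pCore p G : Set G))) ∈ K₁ := by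
      apply hK₁all
      rw [← Subgroup.orderOf_coe]
      exact hycop
    have h2 : y ∈ K₁.map (A₁ ⊓ Subgroup.centralizer (pCore p G : Set G)).subtype :=
      Subgroup.mem_map.mpr ⟨_, h1, rfl⟩
    exact Subgroup.mem_bot.mp (hD h2)

/-- Hall–Higman Lemma 1.2.3: in a `p`-solvable group with `O_{p'}(G) = 1`, `O_p(G)` contains its
centralizer. -/
theorem hh123 {G : Type*} [Group G] [Finite G] {p : ℕ} [Fact p.Prime]
    (hG : IsPSolvable p G) (hO : pPrimeCore p G = ⊥) :
    Subgroup.centralizer (pCore p G : Set G) ≤ pCore p G := by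
  obtain ⟨n, H, h0, hlast, _, hnorm, hfac⟩ := hG
  have key : ∀ i : ℕ, ∀ hi : i < n + 1,
      H ⟨i, hi⟩ ⊓ Subgroup.centralizer (pCore p G : Set G) ≤ pCore p G := by
    intro i
    induction i with
    | zero =>
      intro hi
      have h1 : H ⟨0, hi⟩ = ⊥ := h0
      rw [h1]
      exact inf_le_left.trans bot_le
    | succ i ih =>
      intro hi
      have hi' : i < n := by omega
      exact hh_step hO (H ⟨i, by omega⟩) (H ⟨i + 1, hi⟩)
        (hnorm _) (hnorm _) (hfac ⟨i, hi'⟩) (ih (by omega))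
  have h1 := key n (by omega)
  have h2 : H ⟨n, by omega⟩ = ⊤ := hlast
  rw [h2, top_inf_eq] at h1
  exact h1

/-- `p`-solvability passes to quotients. -/
theorem isPSolvable_quotient {G : Type*} [Group G] [Finite G] {p : ℕ} [Fact p.Prime]
    (hG : IsPSolvable p G) (N : Subgroup G) [N.Normal] : IsPSolvable p (G ⧸ N) := by
  have hpp : p.Prime := Fact.out
  obtain ⟨n, H, h0, hlast, hmono, hnorm, hfac⟩ := hG
  refine ⟨n, fun i => (H i).map (QuotientGroup.mk' N), ?_, ?_, ?_, ?_, ?_⟩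
  · show (H 0).map (QuotientGroup.mk' N) = ⊥
    rw [h0, Subgroup.map_bot]
  · show (H (Fin.last n)).map (QuotientGroup.mk' N) = ⊤
    rw [hlast, ← MonoidHom.range_eq_map]
    exact MonoidHom.range_eq_top.mpr (QuotientGroup.mk'_surjective N)
  · intro i j hij
    exact Subgroup.map_mono (hmono hij)
  · intro i
    exact (hnorm i).map _ (QuotientGroup.mk'_surjective N)
  · intro i
    have hdvd : ((H i.castSucc).map (QuotientGroup.mk' N)).relIndex
        ((H i.succ).map (QuotientGroup.mk' N)) ∣ (H i.castSucc).relIndex (H i.succ) := by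
      rw [← Subgroup.relIndex_comap]
      exact Subgroup.relIndex_dvd_of_le_left _ (Subgroup.le_comap_map _ _)
    rcases hfac i with ⟨m, hm⟩ | hcop
    · left
      rw [hm] at hdvd
      obtain ⟨j, _, hj⟩ := (Nat.dvd_prime_pow hpp).mp hdvd
      exact ⟨j, hj⟩
    · right
      exact Nat.Coprime.coprime_dvd_left hdvd hcop

/-- `O_{p'}` of the quotient by the preimage of `O_{p'}(G/N₀)` is trivial. -/
theorem pPrimeCore_quot_comap_eq_bot {G : Type*} [Group G] [Finite G] {p : ℕ} [Fact p.Prime]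
    (N₀ : Subgroup G) [N₀.Normal] (N₁ : Subgroup G) [N₁.Normal]
    (hN₁ : N₁ = (pPrimeCore p (G ⧸ N₀)).comap (QuotientGroup.mk' N₀)) :
    pPrimeCore p (G ⧸ N₁) = ⊥ := by
  have hpp : p.Prime := Fact.out
  have hc1 := Helper3.pPrimeCore_coprime p (G ⧸ N₁)
  have hc0 := Helper3.pPrimeCore_coprime p (G ⧸ N₀)
  have hMn : ((pPrimeCore p (G ⧸ N₁)).comap (QuotientGroup.mk' N₁)).Normal :=
    Subgroup.Normal.comap inferInstance _
  have hMn' : (((pPrimeCore p (G ⧸ N₁)).comap (QuotientGroup.mk' N₁)).map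
      (QuotientGroup.mk' N₀)).Normal := hMn.map _ (QuotientGroup.mk'_surjective N₀)
  have hcop : (Nat.card (((pPrimeCore p (G ⧸ N₁)).comap (QuotientGroup.mk' N₁)).map
      (QuotientGroup.mk' N₀))).Coprime p := by
    rw [Helper3.coprime_card_iff_forall_orderOf_ne]
    intro y hy hord
    obtain ⟨x, hx, rfl⟩ := Subgroup.mem_map.mp hy
    have hx' : QuotientGroup.mk' N₁ x ∈ pPrimeCore p (G ⧸ N₁) := Subgroup.mem_comap.mp hx
    have h1 : (QuotientGroup.mk' N₁ x) ^ Nat.card (pPrimeCore p (G ⧸ N₁)) = 1 := by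
      have h0 := congrArg Subtype.val (pow_card_eq_one' (G := ↥(pPrimeCore p (G ⧸ N₁)))
        (x := ⟨_, hx'⟩))
      rwa [Subgroup.coe_pow] at h0
    have h2 : x ^ Nat.card (pPrimeCore p (G ⧸ N₁)) ∈ N₁ := by
      rw [← map_pow] at h1
      exact (QuotientGroup.eq_one_iff _).mp h1
    have h2' : x ^ Nat.card (pPrimeCore p (G ⧸ N₁)) ∈
        (pPrimeCore p (G ⧸ N₀)).comap (QuotientGroup.mk' N₀) := by
      rw [← hN₁]; exact h2
    have h3 : QuotientGroup.mk' N₀ (x ^ Nat.card (pPrimeCore p (G ⧸ N₁))) ∈ pPrimeCore p (G ⧸ N₀) :=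
      Subgroup.mem_comap.mp h2'
    have h4 : (QuotientGroup.mk' N₀ (x ^ Nat.card (pPrimeCore p (G ⧸ N₁)))) ^
        Nat.card (pPrimeCore p (G ⧸ N₀)) = 1 := by
      have h0 := congrArg Subtype.val (pow_card_eq_one' (G := ↥(pPrimeCore p (G ⧸ N₀)))
        (x := ⟨_, h3⟩))
      rwa [Subgroup.coe_pow] at h0
    rw [map_pow, ← pow_mul] at h4
    have h5 : p ∣ Nat.card (pPrimeCore p (G ⧸ N₁)) * Nat.card (pPrimeCore p (G ⧸ N₀)) := by
      have h0 := orderOf_dvd_of_pow_eq_one h4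
      rwa [hord] at h0
    rcases (Nat.Prime.dvd_mul hpp).mp h5 with h | h
    · exact (Nat.Prime.coprime_iff_not_dvd hpp).mp hc1.symm h
    · exact (Nat.Prime.coprime_iff_not_dvd hpp).mp hc0.symm h
  have hle : ((pPrimeCore p (G ⧸ N₁)).comap (QuotientGroup.mk' N₁)).map
      (QuotientGroup.mk' N₀) ≤ pPrimeCore p (G ⧸ N₀) := Helper5.le_pPrimeCore _ hMn' hcop
  have hle2 : (pPrimeCore p (G ⧸ N₁)).comap (QuotientGroup.mk' N₁) ≤ N₁ := by
    intro z hz
    have h0 := Subgroup.map_le_iff_le_comap.mp hle hz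
    rw [← hN₁] at h0
    exact h0
  rw [eq_bot_iff]
  intro y hy
  obtain ⟨x, rfl⟩ := QuotientGroup.mk'_surjective N₁ y
  have h1 : x ∈ N₁ := hle2 (Subgroup.mem_comap.mpr hy)
  rw [Subgroup.mem_bot]
  exact (QuotientGroup.eq_one_iff _).mpr h1

theorem upperPSeries_succ_even {G : Type*} [Group G] (p n : ℕ) (h : Even n) :
    (upperPSeries p G (n + 1)).1 =
      (pPrimeCore p (G ⧸ (upperPSeries p G n).1)).comap (QuotientGroup.mk' _) := by
  rw [upperPSeries]
  simp only [if_pos h]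

theorem upperPSeries_succ_odd {G : Type*} [Group G] (p n : ℕ) (h : ¬ Even n) :
    (upperPSeries p G (n + 1)).1 =
      (pCore p (G ⧸ (upperPSeries p G n).1)).comap (QuotientGroup.mk' _) := by
  rw [upperPSeries]
  simp only [if_neg h]

/-- The abstract form of Hall–Higman 1.2.3 along the upper `p`-series. -/
theorem hh_upper {G : Type*} [Group G] [Finite G] {p : ℕ} [Fact p.Prime]
    (hsol : IsPSolvable p G) (N₀ : Subgroup G) [N₀.Normal] (N₁ : Subgroup G) [N₁.Normal]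
    (hN₁ : N₁ = (pPrimeCore p (G ⧸ N₀)).comap (QuotientGroup.mk' N₀)) (N₂ : Subgroup G)
    (hN₂ : N₂ = (pCore p (G ⧸ N₁)).comap (QuotientGroup.mk' N₁)) :
    Subgroup.centralizer ((N₂.map (QuotientGroup.mk' N₁) : Subgroup (G ⧸ N₁)) : Set (G ⧸ N₁))
      ≤ N₂.map (QuotientGroup.mk' N₁) := by
  have h1 : N₂.map (QuotientGroup.mk' N₁) = pCore p (G ⧸ N₁) := by
    rw [hN₂]
    exact Subgroup.map_comap_eq_self_of_surjective (QuotientGroup.mk'_surjective N₁) _
  rw [h1]
  exact hh123 (isPSolvable_quotient hsol N₁) (pPrimeCore_quot_comap_eq_bot N₀ N₁ hN₁)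

end Cfsg.Agent.Helper4
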