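import Mathlib
import Cfsg.Agent.Helper4.HH123
import Cfsg.Prelude.Def_Local

set_option autoImplicit false

namespace Cfsg.Agent.Helper4

open Cfsg

universe u

theorem pl_pCore_map {A B : Type*} [Group A] [Group B] (p : ℕ) (e : A ≃* B) :
    (pCore p A).map e.toMonoidHom = pCore p B := by
  apply le_antisymm
  · rw [Subgroup.map_le_iff_le_comap]
    apply sSup_le
    rintro N ⟨hN, hc⟩
    rw [← Subgroup.map_le_iff_le_comap]
    apply le_sSup
    exact ⟨hN.map _ e.surjective, hc.map _⟩
  · apply sSup_le
    rintro N ⟨hN, hc⟩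
    have h1 : (N.comap e.toMonoidHom).map e.toMonoidHom = N :=
      Subgroup.map_comap_eq_self_of_surjective e.surjective N
    rw [← h1]
    apply Subgroup.map_mono
    apply le_sSup
    exact ⟨hN.comap _, hc.comap_of_injective _ e.injective⟩

theorem pl_pPrimeCore_map {A B : Type*} [Group A] [Group B] (p : ℕ) (e : A ≃* B) :
    (pPrimeCore p A).map e.toMonoidHom = pPrimeCore p B := by
  apply le_antisymm
  · rw [Subgroup.map_le_iff_le_comap]
    apply sSup_le
    rintro N ⟨hN, hc⟩
    rw [← Subgroup.map_le_iff_le_comap]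
    apply le_sSup
    refine ⟨hN.map _ e.surjective, ?_⟩
    have h2 : Nat.card (N.map e.toMonoidHom) = Nat.card N :=
      Subgroup.card_map_of_injective e.injective
    show (Nat.card (N.map e.toMonoidHom)).Coprime p
    rw [h2]
    exact hc
  · apply sSup_le
    rintro N ⟨hN, hc⟩
    have h1 : (N.comap e.toMonoidHom).map e.toMonoidHom = N :=
      Subgroup.map_comap_eq_self_of_surjective e.surjective N
    rw [← h1]
    apply Subgroup.map_mono
    apply le_sSup
    refine ⟨hN.comap _, ?_⟩
    have h2 : Nat.card ((N.comap e.toMonoidHom).map e.toMonoidHom) =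
        Nat.card (N.comap e.toMonoidHom) := Subgroup.card_map_of_injective e.injective
    rw [h1] at h2
    show (Nat.card (N.comap e.toMonoidHom)).Coprime p
    rw [← h2]
    exact hc

/-- The preimages of the cores of `G ⧸ W` are the preimages of the cores of `H` under a surjection
`φ : G → H` with kernel `W`. -/
theorem comap_core_quot {G H : Type*} [Group G] [Group H] (p : ℕ) (φ : G →* H)
    (hφ : Function.Surjective φ) (W : Subgroup G) [W.Normal] (hW : W = φ.ker) :
    (pCore p (G ⧸ W)).comap (QuotientGroup.mk' W) = (pCore p H).comap φ ∧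
    (pPrimeCore p (G ⧸ W)).comap (QuotientGroup.mk' W) = (pPrimeCore p H).comap φ := by
  have hψ : ∀ g : G, (QuotientGroup.liftEquiv W hφ hW) (QuotientGroup.mk' W g) = φ g := fun g => rfl
  constructor
  · ext g
    rw [Subgroup.mem_comap, Subgroup.mem_comap, ← pl_pCore_map p (QuotientGroup.liftEquiv W hφ hW),
      ← hψ]
    constructor
    · intro h
      exact Subgroup.mem_map_of_mem _ h
    · intro h
      obtain ⟨y, hy, hyx⟩ := Subgroup.mem_map.mp h
      have h1 := (QuotientGroup.liftEquiv W hφ hW).injective hyx
      rwa [← h1]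
  · ext g
    rw [Subgroup.mem_comap, Subgroup.mem_comap,
      ← pl_pPrimeCore_map p (QuotientGroup.liftEquiv W hφ hW), ← hψ]
    constructor
    · intro h
      exact Subgroup.mem_map_of_mem _ h
    · intro h
      obtain ⟨y, hy, hyx⟩ := Subgroup.mem_map.mp h
      have h1 := (QuotientGroup.liftEquiv W hφ hW).injective hyx
      rwa [← h1]

theorem upperPSeries_zero' {G : Type*} [Group G] (p : ℕ) : (upperPSeries p G 0).1 = ⊥ := rfl

theorem upperPSeries_one {G : Type*} [Group G] (p : ℕ) :
    (upperPSeries p G 1).1 = pPrimeCore p G := by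
  rw [upperPSeries_succ_even p 0 (by decide)]
  have h1 := (comap_core_quot p (MonoidHom.id G) Function.surjective_id (upperPSeries p G 0).1
    (by rw [MonoidHom.ker_id]; rfl)).2
  rw [h1, Subgroup.comap_id]

theorem upperPSeries_two {G : Type*} [Group G] (p : ℕ) :
    (upperPSeries p G 2).1 = pPrimePCore p G := by
  have hNn : (pPrimeCore p G).Normal := Helper5.pPrimeCore_normal' p G
  rw [upperPSeries_succ_odd p 1 (by decide)]
  have h1 := (comap_core_quot p (QuotientGroup.mk' (pPrimeCore p G))
    (QuotientGroup.mk'_surjective _) (upperPSeries p G 1).1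
    (by rw [QuotientGroup.ker_mk']; exact upperPSeries_one p)).1
  rw [h1]
  rfl

/-- The upper `p`-series of `G` above `O_{p',p}(G)` is the preimage of the upper `p`-series of the
quotient. -/
theorem upperPSeries_shift {G : Type*} [Group G] (p : ℕ) (n : ℕ) :
    (upperPSeries p G (n + 2)).1 =
      ((upperPSeries p (G ⧸ (upperPSeries p G 2).1) n).1).comap
        (QuotientGroup.mk' (upperPSeries p G 2).1) := by
  induction n with
  | zero =>
    rw [upperPSeries_zero', MonoidHom.comap_bot, QuotientGroup.ker_mk']
  | succ n ih =>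
    have hsurj : Function.Surjective
        ((QuotientGroup.mk' (upperPSeries p (G ⧸ (upperPSeries p G 2).1) n).1).comp
          (QuotientGroup.mk' (upperPSeries p G 2).1)) :=
      (QuotientGroup.mk'_surjective _).comp (QuotientGroup.mk'_surjective _)
    have hker : (upperPSeries p G (n + 2)).1 =
        ((QuotientGroup.mk' (upperPSeries p (G ⧸ (upperPSeries p G 2).1) n).1).comp
          (QuotientGroup.mk' (upperPSeries p G 2).1)).ker := by
      rw [← MonoidHom.comap_ker, QuotientGroup.ker_mk']
      exact ih
    have hcore := comap_core_quot p _ hsurj (upperPSeries p G (n + 2)).1 hker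
    by_cases hn : Even n
    · have hn2 : Even (n + 2) := by
        rw [Nat.even_add]; simp [hn]
      have e1 : (upperPSeries p G (n + 1 + 2)).1 =
          (pPrimeCore p (G ⧸ (upperPSeries p G (n + 2)).1)).comap (QuotientGroup.mk' _) :=
        upperPSeries_succ_even p (n + 2) hn2
      rw [e1, hcore.2, upperPSeries_succ_even p n hn, Subgroup.comap_comap]
    · have hn2 : ¬ Even (n + 2) := by
        rw [Nat.even_add]; simp [hn]
      have e1 : (upperPSeries p G (n + 1 + 2)).1 =
          (pCore p (G ⧸ (upperPSeries p G (n + 2)).1)).comap (QuotientGroup.mk' _) :=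
        upperPSeries_succ_odd p (n + 2) hn2
      rw [e1, hcore.1, upperPSeries_succ_odd p n hn, Subgroup.comap_comap]

/-- In a `p`-solvable group the centre of a Sylow `p`-subgroup lies in `O_{p',p}(G)`. -/
theorem center_sylow_le_pPrimePCore {G : Type*} [Group G] [Finite G] {p : ℕ} [Fact p.Prime]
    (hG : IsPSolvable p G) (S : Sylow p G) (z : G)
    (hz : ∀ s ∈ (S : Subgroup G), z * s = s * z) : z ∈ pPrimePCore p G := by
  have hNn : (pPrimeCore p G).Normal := Helper5.pPrimeCore_normal' p G
  have hO : pPrimeCore p (G ⧸ pPrimeCore p G) = ⊥ := Helper3.pPrimeCore_quotient_eq_bot p G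
  have hhh := hh123 (isPSolvable_quotient hG (pPrimeCore p G)) hO
  have hRP : pCore p (G ⧸ pPrimeCore p G) ≤
      (S : Subgroup G).map (QuotientGroup.mk' (pPrimeCore p G)) := by
    have h0 := Helper5.pCore_le_sylow
      (S.mapSurjective (QuotientGroup.mk'_surjective (pPrimeCore p G)))
    rwa [Sylow.coe_mapSurjective] at h0
  show QuotientGroup.mk' (pPrimeCore p G) z ∈ pCore p (G ⧸ pPrimeCore p G)
  apply hhh
  rw [Subgroup.mem_centralizer_iff]
  intro r hr
  obtain ⟨u, hu, rfl⟩ := Subgroup.mem_map.mp (hRP hr)
  rw [← map_mul, ← map_mul, hz u hu]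

/-- Hall–Higman: the `p`-length of a `p`-solvable group is at most the class of a Sylow
`p`-subgroup. -/
theorem plength_le_class (p : ℕ) [Fact p.Prime] : ∀ c : ℕ, ∀ (G : Type u) [Group G] [Finite G],
    IsPSolvable p G → ∀ S : Sylow p G, Group.nilpotencyClass ↥(S : Subgroup G) ≤ c →
    (upperPSeries p G (2 * c + 1)).1 = ⊤ := by
  have hpp : p.Prime := Fact.out
  intro c
  induction c with
  | zero =>
    intro G _ _ hG S hS
    have : Group.IsNilpotent ↥(S : Subgroup G) := S.2.isNilpotent
    have h1 : Subsingleton ↥(S : Subgroup G) :=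
      Group.nilpotencyClass_zero_iff_subsingleton.mp (Nat.le_zero.mp hS)
    have h2 : (S : Subgroup G) = ⊥ := Subgroup.eq_bot_of_subsingleton _
    have h3 : ¬ p ∣ Nat.card G := by
      have h0 := S.not_dvd_index
      rwa [h2, Subgroup.index_bot] at h0
    show (upperPSeries p G 1).1 = ⊤
    rw [upperPSeries_one, eq_top_iff]
    apply Helper5.le_pPrimeCore ⊤ Subgroup.normal_top
    rw [Subgroup.card_top]
    exact ((Nat.Prime.coprime_iff_not_dvd hpp).mpr h3).symm
  | succ c ih =>
    intro G _ _ hG S hS
    have : Group.IsNilpotent ↥(S : Subgroup G) := S.2.isNilpotent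
    have hclass : Group.nilpotencyClass
        ↥((S.mapSurjective (QuotientGroup.mk'_surjective (upperPSeries p G 2).1) :
          Sylow p (G ⧸ (upperPSeries p G 2).1)) : Subgroup (G ⧸ (upperPSeries p G 2).1)) ≤ c := by
      show Group.nilpotencyClass
        ↥((S : Subgroup G).map (QuotientGroup.mk' (upperPSeries p G 2).1)) ≤ c
      have hker : Subgroup.center ↥(S : Subgroup G) ≤
          ((QuotientGroup.mk' (upperPSeries p G 2).1).subgroupMap (S : Subgroup G)).ker := by
        intro z hz
        rw [MonoidHom.mem_ker]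
        apply Subtype.ext
        show QuotientGroup.mk' (upperPSeries p G 2).1 (z : G) = 1
        apply (QuotientGroup.eq_one_iff _).mpr
        rw [upperPSeries_two]
        apply center_sylow_le_pPrimePCore hG S
        intro s hs
        have h0 := Subgroup.mem_center_iff.mp hz ⟨s, hs⟩
        have h1 := congrArg Subtype.val h0
        rw [Subgroup.coe_mul, Subgroup.coe_mul] at h1
        exact h1.symm
      have hsurj : Function.Surjective (QuotientGroup.lift (Subgroup.center ↥(S : Subgroup G))
          ((QuotientGroup.mk' (upperPSeries p G 2).1).subgroupMap (S : Subgroup G)) hker) :=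
        QuotientGroup.lift_surjective_of_surjective _ _
          (MonoidHom.subgroupMap_surjective _ _) hker
      have h1 := Group.nilpotencyClass_le_of_surjective _ hsurj
      rw [Group.nilpotencyClass_quotient_center] at h1
      omega
    have h2 := ih (G ⧸ (upperPSeries p G 2).1) (isPSolvable_quotient hG _) _ hclass
    show (upperPSeries p G (2 * c + 1 + 2)).1 = ⊤
    rw [upperPSeries_shift, h2, Subgroup.comap_top]

end Cfsg.Agent.Helper4
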