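import Mathlib
import Cfsg.Prelude.Def_PLocal
import Cfsg.Agent.Helper4.Unipotent

set_option autoImplicit false

namespace Cfsg.Agent.Helper4

/-- Upper unitriangular `3 × 3` matrices. -/
def IsUT3 {R : Type*} [Ring R] (M : Matrix (Fin 3) (Fin 3) R) : Prop :=
  M 0 0 = 1 ∧ M 1 1 = 1 ∧ M 2 2 = 1 ∧ M 1 0 = 0 ∧ M 2 0 = 0 ∧ M 2 1 = 0

theorem isUT3_one {R : Type*} [Ring R] : IsUT3 (1 : Matrix (Fin 3) (Fin 3) R) := by
  refine ⟨?_, ?_, ?_, ?_, ?_, ?_⟩ <;> simp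

theorem isUT3_mul {R : Type*} [Ring R] {M N : Matrix (Fin 3) (Fin 3) R} (hM : IsUT3 M)
    (hN : IsUT3 N) : IsUT3 (M * N) := by
  obtain ⟨m00, m11, m22, m10, m20, m21⟩ := hM
  obtain ⟨n00, n11, n22, n10, n20, n21⟩ := hN
  refine ⟨?_, ?_, ?_, ?_, ?_, ?_⟩ <;>
    simp [Matrix.mul_apply, Fin.sum_univ_three, m00, m11, m22, m10, m20, m21, n00, n11, n22, n10,
      n20, n21]

theorem isUT3_pow {R : Type*} [Ring R] {M : Matrix (Fin 3) (Fin 3) R} (hM : IsUT3 M) (k : ℕ) :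
    IsUT3 (M ^ k) := by
  induction k with
  | zero => rw [pow_zero]; exact isUT3_one
  | succ k ih => rw [pow_succ]; exact isUT3_mul ih hM

theorem isUT3_sub_one_pow_three {R : Type*} [Ring R] {M : Matrix (Fin 3) (Fin 3) R}
    (hM : IsUT3 M) : (M - 1) ^ 3 = 0 := by
  obtain ⟨m00, m11, m22, m10, m20, m21⟩ := hM
  ext i j
  fin_cases i <;> fin_cases j <;>
    simp [pow_succ, Matrix.mul_apply, Fin.sum_univ_three, m00, m11, m22, m10, m20, m21]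

/-- An upper unitriangular `3 × 3` matrix over `ZMod p`, `p ≥ 3`, has `p`-th power one. -/
theorem isUT3_pow_prime (p : ℕ) [Fact p.Prime] (hp : p ≠ 2) {M : Matrix (Fin 3) (Fin 3) (ZMod p)}
    (hM : IsUT3 M) : M ^ p = 1 := by
  have hpp : p.Prime := Fact.out
  have hp3 : 3 ≤ p := by
    have := hpp.two_le
    omega
  have h1 := matrix_pow_char_pow_sub_one (F := ZMod p) p M 1
  rw [pow_one] at h1
  have h2 : (M - 1) ^ p = 0 := by
    have e : (M - 1) ^ p = (M - 1) ^ 3 * (M - 1) ^ (p - 3) := by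
      rw [← pow_add]
      congr 1
      omega
    rw [e, isUT3_sub_one_pow_three hM, zero_mul]
  rw [h2] at h1
  exact sub_eq_zero.mp h1

/-- `Qd(p)`, `p` odd, has a nonabelian `p`-subgroup. -/
theorem qd_exists_noncomm_pSubgroup (p : ℕ) [Fact p.Prime] (hp : p ≠ 2) :
    ∃ Q : Subgroup ↥(Cfsg.qd p), IsPGroup p Q ∧ ∃ x ∈ Q, ∃ y ∈ Q, x * y ≠ y * x := by
  have hpp : p.Prime := Fact.out
  have _instnz : NeZero p := ⟨hpp.ne_zero⟩
  have _inst1 : Fact (1 < p) := ⟨hpp.one_lt⟩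
  have _instfin : Finite (Matrix.SpecialLinearGroup (Fin 3) (ZMod p)) :=
    Finite.of_injective (fun A => A.1) Subtype.val_injective
  have hadet : (!![1, 1, 0; 0, 1, 0; 0, 0, 1] : Matrix (Fin 3) (Fin 3) (ZMod p)).det = 1 := by
    simp [Matrix.det_fin_three]
  have hbdet : (!![1, 0, 0; 0, 1, 1; 0, 0, 1] : Matrix (Fin 3) (Fin 3) (ZMod p)).det = 1 := by
    simp [Matrix.det_fin_three]
  have haq : (⟨!![1, 1, 0; 0, 1, 0; 0, 0, 1], hadet⟩ : Matrix.SpecialLinearGroup (Fin 3) (ZMod p)) ∈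
      Cfsg.qd p := Subgroup.subset_closure (by
        show (!![1, 1, 0; 0, 1, 0; 0, 0, 1] : Matrix (Fin 3) (Fin 3) (ZMod p)) 2 0 = 0 ∧
          (!![1, 1, 0; 0, 1, 0; 0, 0, 1] : Matrix (Fin 3) (Fin 3) (ZMod p)) 2 1 = 0 ∧
          (!![1, 1, 0; 0, 1, 0; 0, 0, 1] : Matrix (Fin 3) (Fin 3) (ZMod p)) 2 2 = 1
        simp)
  have hbq : (⟨!![1, 0, 0; 0, 1, 1; 0, 0, 1], hbdet⟩ : Matrix.SpecialLinearGroup (Fin 3) (ZMod p)) ∈
      Cfsg.qd p := Subgroup.subset_closure (by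
        show (!![1, 0, 0; 0, 1, 1; 0, 0, 1] : Matrix (Fin 3) (Fin 3) (ZMod p)) 2 0 = 0 ∧
          (!![1, 0, 0; 0, 1, 1; 0, 0, 1] : Matrix (Fin 3) (Fin 3) (ZMod p)) 2 1 = 0 ∧
          (!![1, 0, 0; 0, 1, 1; 0, 0, 1] : Matrix (Fin 3) (Fin 3) (ZMod p)) 2 2 = 1
        simp)
  have hUT : ∀ x ∈ Subgroup.closure ({⟨⟨!![1, 1, 0; 0, 1, 0; 0, 0, 1], hadet⟩, haq⟩,
      ⟨⟨!![1, 0, 0; 0, 1, 1; 0, 0, 1], hbdet⟩, hbq⟩} : Set ↥(Cfsg.qd p)),
      IsUT3 (((x : ↥(Cfsg.qd p)) : Matrix.SpecialLinearGroup (Fin 3) (ZMod p)) :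
        Matrix (Fin 3) (Fin 3) (ZMod p)) := by
    intro x hx
    induction hx using Subgroup.closure_induction with
    | mem x hx =>
      rcases hx with rfl | rfl
      · show IsUT3 (!![1, 1, 0; 0, 1, 0; 0, 0, 1] : Matrix (Fin 3) (Fin 3) (ZMod p))
        refine ⟨?_, ?_, ?_, ?_, ?_, ?_⟩ <;> simp
      · show IsUT3 (!![1, 0, 0; 0, 1, 1; 0, 0, 1] : Matrix (Fin 3) (Fin 3) (ZMod p))
        refine ⟨?_, ?_, ?_, ?_, ?_, ?_⟩ <;> simp
    | one => exact isUT3_one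
    | mul x y _ _ hx hy => exact isUT3_mul hx hy
    | inv x _ hx =>
      have h1 : x⁻¹ = x ^ (orderOf x - 1) := by
        apply inv_eq_of_mul_eq_one_right
        rw [← pow_succ']
        have h2 : orderOf x - 1 + 1 = orderOf x := Nat.sub_add_cancel (orderOf_pos x)
        rw [h2]
        exact pow_orderOf_eq_one x
      rw [h1]
      exact isUT3_pow hx _
  refine ⟨Subgroup.closure ({⟨⟨!![1, 1, 0; 0, 1, 0; 0, 0, 1], hadet⟩, haq⟩,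
      ⟨⟨!![1, 0, 0; 0, 1, 1; 0, 0, 1], hbdet⟩, hbq⟩} : Set ↥(Cfsg.qd p)), ?_, ?_⟩
  · intro x
    refine ⟨1, ?_⟩
    rw [pow_one]
    apply Subtype.ext
    apply Subtype.ext
    apply Subtype.ext
    show ((((x : ↥(Cfsg.qd p)) : Matrix.SpecialLinearGroup (Fin 3) (ZMod p)) :
        Matrix (Fin 3) (Fin 3) (ZMod p))) ^ p = 1
    exact isUT3_pow_prime p hp (hUT x x.2)
  · refine ⟨_, Subgroup.subset_closure (Set.mem_insert _ _), _,
      Subgroup.subset_closure (Set.mem_insert_of_mem _ (Set.mem_singleton _)), ?_⟩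
    intro h
    have h1 : (((!![1, 1, 0; 0, 1, 0; 0, 0, 1] : Matrix (Fin 3) (Fin 3) (ZMod p)) *
        (!![1, 0, 0; 0, 1, 1; 0, 0, 1] : Matrix (Fin 3) (Fin 3) (ZMod p)) :
        Matrix (Fin 3) (Fin 3) (ZMod p))) 0 2 =
        (((!![1, 0, 0; 0, 1, 1; 0, 0, 1] : Matrix (Fin 3) (Fin 3) (ZMod p)) *
        (!![1, 1, 0; 0, 1, 0; 0, 0, 1] : Matrix (Fin 3) (Fin 3) (ZMod p)) :
        Matrix (Fin 3) (Fin 3) (ZMod p))) 0 2 :=
      congrArg (fun z : ↥(Cfsg.qd p) =>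
        ((z : Matrix.SpecialLinearGroup (Fin 3) (ZMod p)) : Matrix (Fin 3) (Fin 3) (ZMod p)) 0 2) h
    simp [Matrix.mul_apply, Fin.sum_univ_three] at h1

end Cfsg.Agent.Helper4
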