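import Mathlib

set_option autoImplicit false

namespace Cfsg.Agent.Helper4

/-- `|N : A ∩ N| = |NA : A|` for `N` normal. -/
theorem relIndex_sup_eq_of_normal {G : Type*} [Group G] [Finite G] (N H : Subgroup G)
    (hN : N.Normal) : H.relIndex (N ⊔ H) = H.relIndex N := by
  have e1 : Nat.card H * H.relIndex (N ⊔ H) = Nat.card (N ⊔ H : Subgroup G) := by
    have h0 := Subgroup.relIndex_mul_relIndex (⊥ : Subgroup G) H (N ⊔ H) bot_le le_sup_right
    rwa [Subgroup.relIndex_bot_left, Subgroup.relIndex_bot_left] at h0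
  have e2 : Nat.card N * N.relIndex H = Nat.card (N ⊔ H : Subgroup G) := by
    have h0 := Subgroup.relIndex_mul_relIndex (⊥ : Subgroup G) N (N ⊔ H) bot_le le_sup_left
    rwa [Subgroup.relIndex_bot_left, Subgroup.relIndex_bot_left, Subgroup.relIndex_sup_left H N] at h0
  have e3 : Nat.card (N ⊓ H : Subgroup G) * N.relIndex H = Nat.card H := by
    have h0 := Subgroup.relIndex_mul_relIndex (⊥ : Subgroup G) (N ⊓ H) H bot_le inf_le_right
    rwa [Subgroup.relIndex_bot_left, Subgroup.relIndex_bot_left, Subgroup.inf_relIndex_right] at h0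
  have hpos : 0 < N.relIndex H :=
    Nat.pos_of_dvd_of_pos (Subgroup.relIndex_dvd_card N H) Nat.card_pos
  have e4 : (Nat.card (N ⊓ H : Subgroup G) * H.relIndex (N ⊔ H)) * N.relIndex H =
      Nat.card N * N.relIndex H := by
    rw [e2, ← e1, ← e3]; ring
  have e5 := Nat.eq_of_mul_eq_mul_right hpos e4
  have e6 : Nat.card (N ⊓ H : Subgroup G) * H.relIndex N = Nat.card N := by
    have h0 := Subgroup.relIndex_mul_relIndex (⊥ : Subgroup G) (N ⊓ H) N bot_le inf_le_left
    rwa [Subgroup.relIndex_bot_left, Subgroup.relIndex_bot_left, Subgroup.inf_relIndex_left] at h0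
  have hpos2 : 0 < Nat.card (N ⊓ H : Subgroup G) := Nat.card_pos
  exact Nat.eq_of_mul_eq_mul_left hpos2 (e5.trans e6.symm)

/-- For `N` normal, `|N : A ∩ N|` divides `|G : A|`. -/
theorem relIndex_dvd_index_of_normal_right {G : Type*} [Group G] [Finite G] (N H : Subgroup G)
    (hN : N.Normal) : H.relIndex N ∣ H.index := by
  rw [← relIndex_sup_eq_of_normal N H hN]
  exact Subgroup.relIndex_dvd_index_of_le le_sup_right

end Cfsg.Agent.Helper4
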